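import Mathlib.Algebra.Polynomial.Laurent
import Mathlib.Algebra.Polynomial.FieldDivision
import Mathlib.Algebra.Polynomial.RingDivision
import Mathlib.RingTheory.Localization.Module
import Mathlib.RingTheory.Localization.Ideal
import Mathlib.RingTheory.PrincipalIdealDomain
import Mathlib.RingTheory.TensorProduct.Free
import Mathlib.RingTheory.Flat.FaithfullyFlat.Basic
import Mathlib.LinearAlgebra.Basis.VectorSpace

/-!
# Torsors under the additive and the multiplicative group over a field are trivial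

`K` a field, `B` a nontrivial `K`-algebra with a difference function
`d σ τ` for two points `σ τ : B →ₐ[K] E` (in `E`, resp. in `Eˣ`).
-/

set_option autoImplicit false
universe u

open TensorProduct Polynomial

namespace Groth.Agent.Sga7.H153.DiffAlg

variable (K B : Type u) [CommRing K] [CommRing B] [Algebra K B]

/-- a difference function with values in the additive group -/
structure DiffA where
  d : ∀ {E : Type u} [CommRing E] [Algebra K E], (B →ₐ[K] E) → (B →ₐ[K] E) → E
  map : ∀ {E E' : Type u} [CommRing E] [Algebra K E] [CommRing E'] [Algebra K E'] (φ : E →ₐ[K] E')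
    (σ τ : B →ₐ[K] E), d (φ.comp σ) (φ.comp τ) = φ (d σ τ)
  add : ∀ {E : Type u} [CommRing E] [Algebra K E] (σ τ υ : B →ₐ[K] E), d σ τ + d τ υ = d σ υ
  inj : ∀ {E : Type u} [CommRing E] [Algebra K E] (σ τ υ : B →ₐ[K] E), d σ τ = d σ υ → τ = υ
  surj : ∀ {E : Type u} [CommRing E] [Algebra K E] (σ : B →ₐ[K] E) (e : E), ∃ τ : B →ₐ[K] E, d σ τ = e

/-- a difference function with values in the multiplicative group -/
structure DiffM where
  d : ∀ {E : Type u} [CommRing E] [Algebra K E], (B →ₐ[K] E) → (B →ₐ[K] E) → Eˣ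
  map : ∀ {E E' : Type u} [CommRing E] [Algebra K E] [CommRing E'] [Algebra K E'] (φ : E →ₐ[K] E')
    (σ τ : B →ₐ[K] E), (d (φ.comp σ) (φ.comp τ) : E') = φ (d σ τ)
  mul : ∀ {E : Type u} [CommRing E] [Algebra K E] (σ τ υ : B →ₐ[K] E), d σ τ * d τ υ = d σ υ
  inj : ∀ {E : Type u} [CommRing E] [Algebra K E] (σ τ υ : B →ₐ[K] E), d σ τ = d σ υ → τ = υ
  surj : ∀ {E : Type u} [CommRing E] [Algebra K E] (σ : B →ₐ[K] E) (e : Eˣ), ∃ τ : B →ₐ[K] E, d σ τ = e

end Groth.Agent.Sga7.H153.DiffAlg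

namespace Groth.Agent.Sga7.H153.DiffAlg

variable {K B : Type u} [Field K] [CommRing B] [Algebra K B] [Nontrivial B]

/-- the contraction of the first factor -/
noncomputable def con (ℓ : B →ₗ[K] K) : B ⊗[K] B →ₗ[K] B :=
  (TensorProduct.lid K B).toLinearMap ∘ₗ LinearMap.rTensor B ℓ

omit [Nontrivial B] in
lemma con_tmul (ℓ : B →ₗ[K] K) (x y : B) : con ℓ (x ⊗ₜ y) = ℓ x • y := by
  simp [con]

/-- the contraction of the first factor -/
noncomputable def con3 (ℓ : B →ₗ[K] K) : B ⊗[K] (B ⊗[K] B) →ₗ[K] B ⊗[K] B :=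
  (TensorProduct.lid K (B ⊗[K] B)).toLinearMap ∘ₗ LinearMap.rTensor (B ⊗[K] B) ℓ

omit [Nontrivial B] in
lemma con3_tmul (ℓ : B →ₗ[K] K) (x : B) (y : B ⊗[K] B) : con3 ℓ (x ⊗ₜ y) = ℓ x • y := by
  simp [con3]

/-- first projection -/
noncomputable abbrev p1 : B →ₐ[K] B ⊗[K] (B ⊗[K] B) := Algebra.TensorProduct.includeLeft

/-- second projection -/
noncomputable abbrev p2 : B →ₐ[K] B ⊗[K] (B ⊗[K] B) :=
  (Algebra.TensorProduct.includeRight : B ⊗[K] B →ₐ[K] B ⊗[K] (B ⊗[K] B)).comp
    (Algebra.TensorProduct.includeLeft : B →ₐ[K] B ⊗[K] B)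

/-- third projection -/
noncomputable abbrev p3 : B →ₐ[K] B ⊗[K] (B ⊗[K] B) :=
  (Algebra.TensorProduct.includeRight : B ⊗[K] B →ₐ[K] B ⊗[K] (B ⊗[K] B)).comp
    (Algebra.TensorProduct.includeRight : B →ₐ[K] B ⊗[K] B)

/-- first projection -/
noncomputable abbrev inl : B →ₐ[K] B ⊗[K] B := Algebra.TensorProduct.includeLeft

/-- second projection -/
noncomputable abbrev inr : B →ₐ[K] B ⊗[K] B := Algebra.TensorProduct.includeRight

omit [Nontrivial B] in
/-- `p13^*` contracted -/
lemma con3_lift13 (ℓ : B →ₗ[K] K) (t : B ⊗[K] B) :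
    con3 ℓ (Algebra.TensorProduct.lift p1 p3 (fun _ _ => .all _ _) t) = (1 : B) ⊗ₜ con ℓ t := by
  induction t with
  | zero => simp
  | add x y hx hy => rw [map_add, map_add, map_add, hx, hy, tmul_add]
  | tmul x y =>
    rw [Algebra.TensorProduct.lift_tmul, con_tmul]
    change con3 ℓ ((x ⊗ₜ (1 : B ⊗[K] B)) * ((1 : B) ⊗ₜ ((1 : B) ⊗ₜ y))) = _
    rw [Algebra.TensorProduct.tmul_mul_tmul, mul_one, one_mul, con3_tmul, tmul_smul]

omit [Nontrivial B] in
/-- `p12^*` contracted -/
lemma con3_lift12_mul (ℓ : B →ₗ[K] K) (t s : B ⊗[K] B) :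
    con3 ℓ (Algebra.TensorProduct.lift p1 p2 (fun _ _ => .all _ _) t *
      Algebra.TensorProduct.includeRight (R := K) (A := B) s) = (con ℓ t) ⊗ₜ[K] (1 : B) * s := by
  induction t with
  | zero => simp
  | add x y hx hy => rw [map_add, map_add, add_mul, map_add, hx, hy, add_tmul, add_mul]
  | tmul x y =>
    rw [Algebra.TensorProduct.lift_tmul, con_tmul]
    change con3 ℓ ((x ⊗ₜ (1 : B ⊗[K] B)) * ((1 : B) ⊗ₜ (y ⊗ₜ (1 : B))) * ((1 : B) ⊗ₜ s)) = _
    rw [Algebra.TensorProduct.tmul_mul_tmul, mul_one, one_mul, Algebra.TensorProduct.tmul_mul_tmul,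
      mul_one, con3_tmul, ← smul_mul_assoc, smul_tmul']

omit [Nontrivial B] in
/-- a linear functional with `ℓ x = 1` -/
lemma exists_functional (I : Submodule K B) {x : B} (hx : x ∉ I) :
    ∃ ℓ : B →ₗ[K] K, ℓ x = 1 ∧ ∀ y ∈ I, ℓ y = 0 := by
  obtain ⟨f, hf, hf'⟩ := Submodule.exists_le_ker_of_notMem hx
  refine ⟨(f x)⁻¹ • f, ?_, fun y hy => ?_⟩
  · rw [LinearMap.smul_apply, smul_eq_mul, inv_mul_cancel₀ hf]
  · rw [LinearMap.smul_apply, LinearMap.mem_ker.1 (hf' hy), smul_zero]

/-- an element with `x ⊗ 1 = 1 ⊗ x` is a scalar -/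
lemma exists_scalar {x : B} (h : x ⊗ₜ[K] (1 : B) = (1 : B) ⊗ₜ[K] x) : ∃ c : K, algebraMap K B c = x := by
  obtain ⟨ℓ, hℓ, -⟩ := exists_functional (⊥ : Submodule K B) (x := (1 : B)) (by simp)
  have := congrArg (con ℓ) h
  rw [con_tmul, con_tmul, hℓ, one_smul] at this
  exact ⟨ℓ x, by rw [Algebra.algebraMap_eq_smul_one]; exact this⟩

/-- an algebra map whose two composites agree has scalar values -/
lemma exists_point (ψ : B →ₐ[K] B) (h : (inl : B →ₐ[K] B ⊗[K] B).comp ψ = inr.comp ψ) :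
    ∃ σ : B →ₐ[K] K, (Algebra.ofId K B).comp σ = ψ := by
  have h1 : ∀ x, ∃ c : K, algebraMap K B c = ψ x := fun x => exists_scalar (congr($h x))
  have h3 : Function.Injective (Algebra.ofId K B) := (algebraMap K B).injective
  have h4 : ∀ x, ψ x ∈ (Algebra.ofId K B).range := h1
  refine ⟨((AlgEquiv.ofInjective (Algebra.ofId K B) h3).symm : _ →ₐ[K] K).comp
    (ψ.codRestrict _ h4), ?_⟩
  ext x
  change ((AlgEquiv.ofInjective (Algebra.ofId K B) h3)
    ((AlgEquiv.ofInjective (Algebra.ofId K B) h3).symm (ψ.codRestrict _ h4 x)) : B) = ψ x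
  rw [AlgEquiv.apply_symm_apply]
  rfl

section Add

variable (D : DiffA K B)

/-- `d σ τ = τ b - σ b` -/
lemma DiffA.exists_coord : ∃ b : B, ∀ {E : Type u} [CommRing E] [Algebra K E] (σ τ : B →ₐ[K] E),
    D.d σ τ = τ b - σ b := by
  let t : B ⊗[K] B := D.d inl inr
  have ht : ∀ {E : Type u} [CommRing E] [Algebra K E] (σ τ : B →ₐ[K] E),
      D.d σ τ = Algebra.TensorProduct.lift σ τ (fun _ _ => .all _ _) t := by
    intro E _ _ σ τ
    change _ = Algebra.TensorProduct.lift σ τ (fun _ _ => .all _ _) (D.d inl inr)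
    rw [← D.map]
    congr 1
    · ext x; simp
    · ext x; simp
  obtain ⟨ℓ, hℓ, -⟩ := exists_functional (⊥ : Submodule K B) (x := (1 : B)) (by simp)
  have hc := D.add (p1 : B →ₐ[K] B ⊗[K] (B ⊗[K] B)) p2 p3
  rw [ht p1 p3, ht p1 p2, show D.d (p2 : B →ₐ[K] B ⊗[K] (B ⊗[K] B)) p3 =
    Algebra.TensorProduct.includeRight (R := K) (A := B) t from D.map _ _ _] at hc
  have h2 := congrArg (con3 ℓ) hc
  rw [con3_lift13, map_add] at h2
  have h3 := con3_lift12_mul ℓ t 1
  rw [map_one, mul_one, mul_one] at h3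
  have h4 : con3 ℓ (Algebra.TensorProduct.includeRight (R := K) (A := B) t) = t := by
    change con3 ℓ ((1 : B) ⊗ₜ t) = t
    rw [con3_tmul, hℓ, one_smul]
  rw [h3, h4] at h2
  refine ⟨con ℓ t, fun {E} _ _ σ τ => ?_⟩
  rw [ht σ τ]
  have h5 := congrArg (Algebra.TensorProduct.lift σ τ (fun _ _ => .all _ _)) h2
  rw [map_add, Algebra.TensorProduct.lift_tmul, Algebra.TensorProduct.lift_tmul, map_one, map_one,
    mul_one, one_mul] at h5
  rw [← h5]
  ring

include D in
/-- **additive torsors over a field are trivial** -/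
theorem DiffA.exists_bijective : ∃ b : B, Function.Bijective (aeval (R := K) b : K[X] → B) := by
  obtain ⟨b, hb⟩ := D.exists_coord
  have hinj : ∀ {E : Type u} [CommRing E] [Algebra K E] (σ τ : B →ₐ[K] E), σ b = τ b → σ = τ := by
    intro E _ _ σ τ h
    apply D.inj σ σ τ
    rw [hb, hb, h]
  obtain ⟨ψ, hψ⟩ := D.surj (AlgHom.id K B) (-b)
  have hψb : ψ b = 0 := by
    rw [hb, AlgHom.id_apply] at hψ
    exact sub_eq_neg_self.1 hψ
  obtain ⟨σ, hσ⟩ := exists_point ψ (hinj _ _ (by
    rw [AlgHom.comp_apply, AlgHom.comp_apply, hψb, map_zero, map_zero]))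
  have hσb : σ b = 0 := by
    apply (algebraMap K B).injective
    rw [map_zero, ← hψb, ← hσ]
    rfl
  obtain ⟨g, hg⟩ := D.surj ((Algebra.ofId K K[X]).comp σ) (X : K[X])
  have hgb : g b = X := by
    rw [hb, AlgHom.comp_apply, hσb, map_zero, sub_zero] at hg
    exact hg
  refine ⟨b, ?_⟩
  have h1 : (aeval b : K[X] →ₐ[K] B).comp g = AlgHom.id K B := by
    apply hinj
    rw [AlgHom.comp_apply, hgb, aeval_X, AlgHom.id_apply]
  have h2 : g.comp (aeval b : K[X] →ₐ[K] B) = AlgHom.id K K[X] := by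
    apply Polynomial.algHom_ext
    rw [AlgHom.comp_apply, aeval_X, hgb, AlgHom.id_apply]
  exact Function.bijective_iff_has_inverse.2 ⟨g, fun x => congr($h2 x), fun x => congr($h1 x)⟩

end Add

section Mul

variable (D : DiffM K B)

set_option linter.unusedSectionVars false in
/-- `(σ b) (d σ τ) = τ b` for a unit `b` -/
lemma DiffM.exists_coord : ∃ b : Bˣ, ∀ {E : Type u} [CommRing E] [Algebra K E] (σ τ : B →ₐ[K] E),
    σ b * D.d σ τ = τ b := by
  let t : B ⊗[K] B := (D.d (inl : B →ₐ[K] B ⊗[K] B) inr : (B ⊗[K] B)ˣ)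
  have htu : IsUnit t := Units.isUnit _
  have ht : ∀ {E : Type u} [CommRing E] [Algebra K E] (σ τ : B →ₐ[K] E),
      (D.d σ τ : E) = Algebra.TensorProduct.lift σ τ (fun _ _ => .all _ _) t := by
    intro E _ _ σ τ
    change _ = Algebra.TensorProduct.lift σ τ (fun _ _ => .all _ _) (D.d inl inr : (B ⊗[K] B)ˣ).1
    rw [← D.map]
    congr 2
    · ext x; simp
    · ext x; simp
  have hc := congrArg Units.val (D.mul (p1 : B →ₐ[K] B ⊗[K] (B ⊗[K] B)) p2 p3)
  rw [Units.val_mul, ht p1 p3, ht p1 p2, show (D.d (p2 : B →ₐ[K] B ⊗[K] (B ⊗[K] B)) p3 : B ⊗[K] (B ⊗[K] B)) =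
    Algebra.TensorProduct.includeRight (R := K) (A := B) t from D.map _ _ _] at hc
  have key : ∀ ℓ : B →ₗ[K] K, (con ℓ t) ⊗ₜ[K] (1 : B) * t = (1 : B) ⊗ₜ[K] con ℓ t := by
    intro ℓ
    have h2 := congrArg (con3 ℓ) hc
    rwa [con3_lift13, con3_lift12_mul] at h2
  -- a functional with nonzero contraction
  obtain ⟨ℓ, hℓ⟩ : ∃ ℓ : B →ₗ[K] K, con ℓ t ≠ 0 := by
    by_contra hcon
    push Not at hcon
    have h0 : t = 0 := by
      classical
      let bs := Module.Basis.ofVectorSpace K B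
      have h1 : ∀ s : B ⊗[K] B, (∀ ℓ : B →ₗ[K] K, con ℓ s = 0) → s = 0 := by
        intro s hs
        let e : B ⊗[K] B ≃ₗ[K] (Module.Basis.ofVectorSpaceIndex K B →₀ B) :=
          (TensorProduct.congr bs.repr (LinearEquiv.refl K B)).trans (TensorProduct.finsuppScalarLeft K B _)
        apply e.injective
        rw [map_zero]
        ext i
        have h3 : ∀ s : B ⊗[K] B, e s i = con (bs.coord i) s := by
          intro s
          induction s with
          | zero => simp
          | add x y hx hy => rw [map_add, map_add, Finsupp.add_apply, hx, hy]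
          | tmul x y =>
            rw [con_tmul]
            simp [e, TensorProduct.finsuppScalarLeft_apply_tmul_apply]
        rw [h3, hs, Finsupp.zero_apply]
      exact h1 t hcon
    rw [h0] at htu
    have : Nontrivial (B ⊗[K] B) := inferInstance
    exact not_isUnit_zero htu
  have hk := key ℓ
  -- the ideal generated by the contraction is everything
  have hunit : IsUnit (con ℓ t) := by
    by_contra hnu
    let x := con ℓ t
    have hI : (1 : B) ∉ (Ideal.span {x} : Ideal B).restrictScalars K := by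
      intro h1
      exact hnu (Ideal.span_singleton_eq_top.1 ((Ideal.eq_top_iff_one _).2 h1))
    obtain ⟨f, hf1, hf0⟩ := exists_functional _ hI
    have h1 : con f ((1 : B) ⊗ₜ[K] x) = x := by rw [con_tmul, hf1, one_smul]
    have h2 : ∀ s : B ⊗[K] B, con f (x ⊗ₜ[K] (1 : B) * s) = 0 := by
      intro s
      induction s with
      | zero => simp
      | add y z hy hz => rw [mul_add, map_add, hy, hz, add_zero]
      | tmul y z =>
        rw [Algebra.TensorProduct.tmul_mul_tmul, con_tmul,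
          hf0 _ (Ideal.mul_mem_right _ _ (Ideal.mem_span_singleton_self x)), zero_smul]
    apply hℓ
    change x = 0
    rw [← h1, ← hk, h2]
  refine ⟨hunit.unit, fun {E} _ _ σ τ => ?_⟩
  rw [ht σ τ]
  have h5 := congrArg (Algebra.TensorProduct.lift σ τ (fun _ _ => .all _ _)) hk
  rw [map_mul, Algebra.TensorProduct.lift_tmul, Algebra.TensorProduct.lift_tmul, map_one, map_one,
    mul_one, one_mul] at h5
  exact h5

open LaurentPolynomial in
include D in
/-- **multiplicative torsors over a field are trivial** -/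
theorem DiffM.exists_bijective : ∃ (b : Bˣ) (f : LaurentPolynomial K ≃ₐ[K] B), f (T 1) = b := by
  obtain ⟨b, hb⟩ := D.exists_coord
  have hinj : ∀ {E : Type u} [CommRing E] [Algebra K E] (σ τ : B →ₐ[K] E), σ b = τ b → σ = τ := by
    intro E _ _ σ τ h
    apply D.inj σ σ τ
    apply Units.ext
    have h1 := hb σ σ
    have h2 := hb σ τ
    rw [← h] at h2
    exact (b.isUnit.map σ).mul_left_cancel (h1.trans h2.symm)
  obtain ⟨ψ, hψ⟩ := D.surj (AlgHom.id K B) b⁻¹
  have hψb : ψ b = 1 := by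
    rw [← hb (AlgHom.id K B) ψ, hψ, AlgHom.id_apply, Units.mul_inv]
  obtain ⟨σ, hσ⟩ := exists_point ψ (hinj _ _ (by
    rw [AlgHom.comp_apply, AlgHom.comp_apply, hψb, map_one, map_one]))
  have hσb : σ b = 1 := by
    apply (algebraMap K B).injective
    rw [map_one, ← hψb, ← hσ]
    rfl
  let T1 : (LaurentPolynomial K)ˣ := ⟨T 1, T (-1), by rw [← T_add]; simp, by rw [← T_add]; simp⟩
  obtain ⟨g, hg⟩ := D.surj ((Algebra.ofId K (LaurentPolynomial K)).comp σ) T1
  have hgb : g b = T 1 := by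
    rw [← hb ((Algebra.ofId K (LaurentPolynomial K)).comp σ) g, hg, AlgHom.comp_apply, hσb, map_one, one_mul]
  let f : LaurentPolynomial K →ₐ[K] B := AddMonoidAlgebra.lift K B ℤ
    ((Units.coeHom B).comp (zpowersHom Bˣ b))
  have hf : ∀ n : ℤ, f (T n) = (b ^ n : Bˣ) := by
    intro n
    change AddMonoidAlgebra.lift K B ℤ _ (AddMonoidAlgebra.single n 1) = _
    rw [AddMonoidAlgebra.lift_single, one_smul]
    rfl
  have h1 : f.comp g = AlgHom.id K B := by
    apply hinj
    rw [AlgHom.comp_apply, hgb, hf, zpow_one, AlgHom.id_apply]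
  have h2 : g.comp f = AlgHom.id K (LaurentPolynomial K) := by
    refine AddMonoidAlgebra.algHom_ext ?_ (by ext)
    intro n
    change g (f (T n)) = T n
    rw [hf]
    have h3 : g ((b ^ n : Bˣ) : B) = ((T1 ^ n : (LaurentPolynomial K)ˣ) : LaurentPolynomial K) := by
      have h4 : Units.map (g : B →* LaurentPolynomial K) b = T1 := Units.ext hgb
      rw [← h4, ← map_zpow]
      rfl
    rw [h3]
    have h5 : ∀ m : ℤ, ((T1 ^ m : (LaurentPolynomial K)ˣ) : LaurentPolynomial K) = T m := by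
      intro m
      have h6 : ∀ n : ℕ, ((T1 ^ n : (LaurentPolynomial K)ˣ) : LaurentPolynomial K) = T n := by
        intro n
        rw [Units.val_pow_eq_pow_val]
        change (T 1) ^ n = _
        rw [T_pow, mul_one]
      obtain ⟨n, rfl | rfl⟩ := m.eq_nat_or_neg
      · rw [zpow_natCast, h6]
      · rw [zpow_neg, zpow_natCast]
        apply Units.inv_eq_of_mul_eq_one_right
        rw [h6, ← T_add]
        simp
    exact h5 n
  refine ⟨b, AlgEquiv.ofAlgHom f g h1 h2, ?_⟩
  change f (T 1) = b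
  rw [hf, zpow_one]

end Mul

/-- what we need to know about the coordinate ring of a torsor under `𝔾_a` or `𝔾_m` over a field -/
structure IsGood (K B : Type u) [Field K] [CommRing B] [Algebra K B] (b : Bˣ) : Prop where
  isDomain : IsDomain B
  isPrincipalIdealRing : IsPrincipalIdealRing B
  units : ∀ u : Bˣ, ∃ (c : Kˣ) (n : ℤ), u = Units.map (algebraMap K B : K →* B) c * b ^ n

theorem DiffA.isGood (D : DiffA K B) : IsGood K B (1 : Bˣ) := by
  obtain ⟨b, hb⟩ := D.exists_bijective
  let e : K[X] ≃ₐ[K] B := AlgEquiv.ofBijective _ hb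
  refine ⟨e.toMulEquiv.symm.isDomain, ?_, fun u => ?_⟩
  · exact IsPrincipalIdealRing.of_surjective (e : K[X] →+* B) e.surjective
  · have h1 : IsUnit (e.symm (u : B)) := u.isUnit.map e.symm
    obtain ⟨c, hc, hc'⟩ := Polynomial.isUnit_iff.1 h1
    refine ⟨hc.unit, 0, ?_⟩
    apply Units.ext
    rw [one_zpow, mul_one]
    change (u : B) = algebraMap K B c
    rw [← e.apply_symm_apply (u : B), ← hc']
    exact e.commutes c

open LaurentPolynomial in
lemma units_laurent (u : (LaurentPolynomial K)ˣ) : ∃ (c : Kˣ) (n : ℤ),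
    (u : LaurentPolynomial K) = LaurentPolynomial.C (c : K) * T n := by
  obtain ⟨n, f, hf⟩ := (u : LaurentPolynomial K).exists_T_pow
  obtain ⟨m, g, hg⟩ := ((u⁻¹ : (LaurentPolynomial K)ˣ) : LaurentPolynomial K).exists_T_pow
  have h1 : f * g = X ^ (n + m) := by
    apply toLaurent_injective
    rw [map_mul, hf, hg, map_pow, toLaurent_X, T_pow, mul_one]
    have h2 : (u : LaurentPolynomial K) * T n * (((u⁻¹ : (LaurentPolynomial K)ˣ) : LaurentPolynomial K) * T m) =
        ((u : LaurentPolynomial K) * ((u⁻¹ : (LaurentPolynomial K)ˣ) : LaurentPolynomial K)) * (T n * T m) := by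
      ring
    rw [h2, Units.mul_inv, one_mul, ← T_add]
    push_cast
    rfl
  obtain ⟨j, -, hj⟩ := (dvd_prime_pow Polynomial.prime_X _).1 (Dvd.intro g h1)
  obtain ⟨w, hw⟩ := hj.symm
  obtain ⟨c, hc, hc'⟩ := Polynomial.isUnit_iff.1 w.isUnit
  refine ⟨hc.unit, (j : ℤ) - n, ?_⟩
  have h3 : (u : LaurentPolynomial K) * T n = LaurentPolynomial.C c * T j := by
    rw [← hf, ← hw, ← hc', map_mul, map_pow, toLaurent_X, T_pow, mul_one, toLaurent_C, mul_comm]
  calc (u : LaurentPolynomial K) = (u : LaurentPolynomial K) * T n * T (-n) := by rw [mul_assoc, ← T_add, add_neg_cancel, T_zero, mul_one]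
    _ = LaurentPolynomial.C c * T j * T (-n) := by rw [h3]
    _ = _ := by rw [mul_assoc, ← T_add, sub_eq_add_neg]; rfl

theorem DiffM.exists_isGood (D : DiffM K B) : ∃ b : Bˣ, IsGood K B b := by
  obtain ⟨b, e, he⟩ := D.exists_bijective
  refine ⟨b, e.toMulEquiv.symm.isDomain, ?_, fun u => ?_⟩
  · have h1 : IsPrincipalIdealRing (LaurentPolynomial K) := by
      refine ⟨fun J => ?_⟩
      have h2 := IsLocalization.map_under (Submonoid.powers (X : K[X])) (LaurentPolynomial K) J
      obtain ⟨a, ha⟩ := (IsPrincipalIdealRing.principal (J.under K[X])).principal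
      refine ⟨algebraMap K[X] (LaurentPolynomial K) a, ?_⟩
      rw [Ideal.submodule_span_eq] at ha
      rw [← h2, ha, Ideal.map_span, Set.image_singleton, Ideal.submodule_span_eq]
    exact IsPrincipalIdealRing.of_surjective (e : LaurentPolynomial K →+* B) e.surjective
  · obtain ⟨c, n, hn⟩ := units_laurent (Units.map (e.symm : B →* LaurentPolynomial K) u)
    refine ⟨c, n, ?_⟩
    apply Units.ext
    rw [Units.val_mul]
    change e.symm (u : B) = _ at hn
    change (u : B) = algebraMap K B c * (b ^ n : Bˣ)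
    rw [← e.apply_symm_apply (u : B), hn, map_mul]
    congr 1
    · exact e.commutes (c : K)
    · -- `e (T n) = b ^ n`
      let T1 : (LaurentPolynomial K)ˣ :=
        ⟨LaurentPolynomial.T 1, LaurentPolynomial.T (-1), by rw [← LaurentPolynomial.T_add]; simp,
          by rw [← LaurentPolynomial.T_add]; simp⟩
      have h4 : Units.map (e : LaurentPolynomial K →* B) T1 = b := Units.ext he
      rw [← h4, ← map_zpow]
      have h5 : ∀ m : ℤ, ((T1 ^ m : (LaurentPolynomial K)ˣ) : LaurentPolynomial K) = LaurentPolynomial.T m := by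
        intro m
        have h6 : ∀ n : ℕ, ((T1 ^ n : (LaurentPolynomial K)ˣ) : LaurentPolynomial K) = LaurentPolynomial.T n := by
          intro n
          rw [Units.val_pow_eq_pow_val]
          change (LaurentPolynomial.T 1) ^ n = _
          rw [LaurentPolynomial.T_pow, mul_one]
        obtain ⟨n, rfl | rfl⟩ := m.eq_nat_or_neg
        · rw [zpow_natCast, h6]
        · rw [zpow_neg, zpow_natCast]
          apply Units.inv_eq_of_mul_eq_one_right
          rw [h6, ← LaurentPolynomial.T_add]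
          simp
      exact (congrArg e (h5 n)).symm

end Groth.Agent.Sga7.H153.DiffAlg
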