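import Groth.Agent.Sga3B.GaPts
import Groth.Agent.Sga7.H153.DiffAlg

/-!
# The difference function of the fibres of a quotient by `𝔾_a` or `𝔾_m`

`q : Y ⟶ Y1` a homomorphism of `S`-group schemes with kernel `i : C ⟶ Y`, and a cartesian square
`Spec B ⟶ Y`, `Spec K ⟶ Y1`.  Two points `σ τ : B →ₐ[K] E` have a difference in `C(E)`.
-/

set_option autoImplicit false
set_option linter.unusedSectionVars false
universe u
open CategoryTheory MonoidalCategory CartesianMonoidalCategory MonObj GrpObj AlgebraicGeometry Limits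

namespace Groth.Agent.Sga7.H153.TorsFib

open Groth.Agent.Sga3B.DSPts Groth.Agent.Sga3B.GaPts DiffAlg

variable {S : Scheme.{u}}

/-! ### points of the multiplicative group -/

section gm

/-- the unit attached to a point of `𝔾_m` -/
noncomputable def gmU {T : Over S} (x : T ⟶ Red.Gm S) : (Γ(T.left, ⊤))ˣ :=
  (dsChar x).toHomUnits (Multiplicative.ofAdd 1)

lemma gmU_mul {T : Over S} (x y : T ⟶ Red.Gm S) : gmU (x * y) = gmU x * gmU y := by
  apply Units.ext
  change dsChar (x * y) (Multiplicative.ofAdd 1) = _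
  rw [dsChar_mul]
  rfl

lemma gmU_comp {T T' : Over S} (h : T' ⟶ T) (x : T ⟶ Red.Gm S) :
    (gmU (h ≫ x) : Γ(T'.left, ⊤)) = h.left.appTop (gmU x : Γ(T.left, ⊤)) := by
  change dsChar (h ≫ x) (Multiplicative.ofAdd 1) = _
  rw [dsChar_comp]
  rfl

lemma gmU_injective (T : Over S) : Function.Injective (gmU : (T ⟶ Red.Gm S) → _) := by
  intro x y h
  have h1 : (dsChar x).toHomUnits = (dsChar y).toHomUnits := by
    apply MonoidHom.ext_mint
    exact h
  have h2 : dsChar x = dsChar y := by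
    refine MonoidHom.ext fun z => ?_
    exact congrArg Units.val (DFunLike.congr_fun h1 z)
  rw [← dsEquiv_dsChar x, h2, dsEquiv_dsChar]

lemma gmU_surjective (T : Over S) : Function.Surjective (gmU : (T ⟶ Red.Gm S) → _) := by
  intro u
  refine ⟨dsEquiv T ℤ ((Units.coeHom _).comp (zpowersHom _ u)), ?_⟩
  apply Units.ext
  change dsChar (dsEquiv T ℤ _) (Multiplicative.ofAdd 1) = _
  rw [dsChar_dsEquiv]
  change ((u ^ (1 : ℤ) : (Γ(T.left, ⊤))ˣ) : Γ(T.left, ⊤)) = u
  rw [zpow_one]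

end gm

/-! ### The difference of two points -/

section diff

variable {C Y Y1 : Over S} [GrpObj C] [GrpObj Y] [GrpObj Y1]
variable {K B : Type u} [CommRing K] [CommRing B] [Algebra K B]
variable (g : Spec (CommRingCat.of B) ⟶ Y.left) (t : Spec (CommRingCat.of K) ⟶ Y1.left)
variable {E E' : Type u} [CommRing E] [Algebra K E] [CommRing E'] [Algebra K E']

variable (E) in
/-- `Spec E` over `S` -/
noncomputable abbrev TE : Over S := Over.mk (Spec.map (CommRingCat.ofHom (algebraMap K E)) ≫ t ≫ Y1.hom)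

variable (E) in
/-- the image in `Y1` -/
noncomputable def base : TE t E ⟶ Y1 :=
  Over.homMk (Spec.map (CommRingCat.ofHom (algebraMap K E)) ≫ t) (Category.assoc _ _ _)

/-- change of rings -/
noncomputable def tr (φ : E →ₐ[K] E') : TE t E' ⟶ TE t E :=
  Over.homMk (Spec.map (CommRingCat.ofHom φ.toRingHom)) (by
    change Spec.map _ ≫ Spec.map _ ≫ t ≫ Y1.hom = Spec.map _ ≫ t ≫ Y1.hom
    rw [← Category.assoc, ← Spec.map_comp, ← CommRingCat.ofHom_comp]
    congr 3
    exact φ.comp_algebraMap)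

variable {q : Y ⟶ Y1} (sq : IsPullback g (Spec.map (CommRingCat.ofHom (algebraMap K B))) q.left t)

include sq in
lemma pt_w (σ : B →ₐ[K] E) : (Spec.map (CommRingCat.ofHom σ.toRingHom) ≫ g) ≫ Y.hom = (TE t E).hom := by
  change _ = Spec.map _ ≫ t ≫ Y1.hom
  rw [← Over.w q, Category.assoc, ← Category.assoc g, sq.w, Category.assoc, ← Category.assoc,
    ← Spec.map_comp, ← CommRingCat.ofHom_comp]
  congr 3
  exact σ.comp_algebraMap

/-- the point of `Y` attached to `σ : B →ₐ[K] E` -/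
noncomputable def pt (σ : B →ₐ[K] E) : TE t E ⟶ Y :=
  Over.homMk (Spec.map (CommRingCat.ofHom σ.toRingHom) ≫ g) (pt_w g t sq σ)

lemma pt_comp (σ : B →ₐ[K] E) : pt g t sq σ ≫ q = base t E := by
  ext1
  change (Spec.map (CommRingCat.ofHom σ.toRingHom) ≫ g) ≫ q.left = Spec.map _ ≫ t
  rw [Category.assoc, sq.w, ← Category.assoc, ← Spec.map_comp, ← CommRingCat.ofHom_comp]
  congr 3
  exact σ.comp_algebraMap

lemma tr_pt (φ : E →ₐ[K] E') (σ : B →ₐ[K] E) : tr t φ ≫ pt g t sq σ = pt g t sq (φ.comp σ) := by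
  ext1
  change Spec.map (CommRingCat.ofHom φ.toRingHom) ≫ Spec.map (CommRingCat.ofHom σ.toRingHom) ≫ g =
    Spec.map (CommRingCat.ofHom (φ.comp σ).toRingHom) ≫ g
  rw [← Category.assoc, ← Spec.map_comp, ← CommRingCat.ofHom_comp]
  rfl

/-- a point of `Y` over the base comes from a point of the fibre -/
lemma exists_pt (y : TE t E ⟶ Y) (hy : y ≫ q = base t E) : ∃ σ : B →ₐ[K] E, pt g t sq σ = y := by
  have h1 : y.left ≫ q.left = Spec.map (CommRingCat.ofHom (algebraMap K E)) ≫ t := congrArg (·.left) hy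
  let f : Spec (CommRingCat.of E) ⟶ Spec (CommRingCat.of B) := sq.lift y.left _ h1
  have hf1 : f ≫ g = y.left := sq.lift_fst _ _ _
  have hf2 : f ≫ Spec.map (CommRingCat.ofHom (algebraMap K B)) =
    Spec.map (CommRingCat.ofHom (algebraMap K E)) := sq.lift_snd _ _ _
  obtain ⟨ψ, hψ⟩ := Spec.map_surjective f
  rw [← hψ, ← Spec.map_comp] at hf2
  have hf3 := congrArg CommRingCat.Hom.hom (Spec.map_injective hf2)
  let σ : B →ₐ[K] E := { ψ.hom with commutes' := fun r => congr($hf3 r) }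
  refine ⟨σ, ?_⟩
  ext1
  change Spec.map (CommRingCat.ofHom σ.toRingHom) ≫ g = y.left
  rw [← hf1, ← hψ]
  rfl

lemma pt_injective {σ τ : B →ₐ[K] E} (h : pt g t sq σ = pt g t sq τ) : σ = τ := by
  have h1 : Spec.map (CommRingCat.ofHom σ.toRingHom) ≫ g = Spec.map (CommRingCat.ofHom τ.toRingHom) ≫ g :=
    congrArg (·.left) h
  have h2 : Spec.map (CommRingCat.ofHom σ.toRingHom) = Spec.map (CommRingCat.ofHom τ.toRingHom) := by
    apply sq.hom_ext h1
    rw [← Spec.map_comp, ← Spec.map_comp, ← CommRingCat.ofHom_comp, ← CommRingCat.ofHom_comp]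
    congr 2
    exact σ.comp_algebraMap.trans τ.comp_algebraMap.symm
  have h3 := congrArg CommRingCat.Hom.hom (Spec.map_injective h2)
  ext x
  exact congr($h3 x)

variable {i : C ⟶ Y} [IsMonHom q] (hk : AlgGrp.IsKernel i q)

include hk in
lemma mono_of_isKernel : Mono i := by
  exact ⟨fun a b h => hk.hom_ext h (toUnit_unique _ _)⟩

lemma diff_w (σ τ : B →ₐ[K] E) : ((pt g t sq σ)⁻¹ * pt g t sq τ) ≫ q = toUnit _ ≫ η[Y1] := by
  rw [MonObj.mul_comp, GrpObj.inv_comp, pt_comp, pt_comp, inv_mul_cancel]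
  rfl

/-- the difference of two points -/
noncomputable def diff (σ τ : B →ₐ[K] E) : TE t E ⟶ C :=
  hk.lift ((pt g t sq σ)⁻¹ * pt g t sq τ) (toUnit _) (diff_w g t sq σ τ)

lemma diff_comp (σ τ : B →ₐ[K] E) : diff g t sq hk σ τ ≫ i = (pt g t sq σ)⁻¹ * pt g t sq τ :=
  hk.lift_fst _ _ _

lemma tr_diff (φ : E →ₐ[K] E') (σ τ : B →ₐ[K] E) :
    tr t φ ≫ diff g t sq hk σ τ = diff g t sq hk (φ.comp σ) (φ.comp τ) := by
  have := mono_of_isKernel hk
  rw [← cancel_mono i, Category.assoc, diff_comp, diff_comp, MonObj.comp_mul, GrpObj.comp_inv, tr_pt, tr_pt]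

lemma diff_mul [IsMonHom i] (σ τ υ : B →ₐ[K] E) :
    diff g t sq hk σ τ * diff g t sq hk τ υ = diff g t sq hk σ υ := by
  have := mono_of_isKernel hk
  rw [← cancel_mono i, MonObj.mul_comp, diff_comp, diff_comp, diff_comp]
  group

lemma diff_inj {σ τ υ : B →ₐ[K] E} (h : diff g t sq hk σ τ = diff g t sq hk σ υ) : τ = υ := by
  have h1 := congrArg (· ≫ i) h
  simp only [diff_comp] at h1
  exact pt_injective g t sq (mul_left_cancel h1)

lemma diff_surj (σ : B →ₐ[K] E) (c : TE t E ⟶ C) : ∃ τ : B →ₐ[K] E, diff g t sq hk σ τ = c := by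
  have hm := mono_of_isKernel hk
  obtain ⟨τ, hτ⟩ := exists_pt g t sq (pt g t sq σ * (c ≫ i)) (by
    rw [MonObj.mul_comp, pt_comp, Category.assoc, hk.w, ← Category.assoc, toUnit_unique (c ≫ toUnit C) (toUnit _)]
    exact mul_one (base t E))
  refine ⟨τ, ?_⟩
  rw [← cancel_mono i, diff_comp, hτ]
  group

end diff

section coords

variable {Y Y1 : Over S} [GrpObj Y] [GrpObj Y1]
variable {K B : Type u} [CommRing K] [CommRing B] [Algebra K B]
variable (g : Spec (CommRingCat.of B) ⟶ Y.left) (t : Spec (CommRingCat.of K) ⟶ Y1.left)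
variable {q : Y ⟶ Y1} [IsMonHom q]
variable (sq : IsPullback g (Spec.map (CommRingCat.ofHom (algebraMap K B))) q.left t)

lemma tr_appTop {E E' : Type u} [CommRing E] [Algebra K E] [CommRing E'] [Algebra K E'] (φ : E →ₐ[K] E')
    (x : Γ(Spec (CommRingCat.of E), ⊤)) :
    (Scheme.ΓSpecIso (CommRingCat.of E')).hom ((tr (Y1 := Y1) t φ).left.appTop x) =
      φ ((Scheme.ΓSpecIso (CommRingCat.of E)).hom x) :=
  congr($(Scheme.ΓSpecIso_naturality (CommRingCat.ofHom φ.toRingHom)) x)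

/-- the difference function of a fibre of a quotient by `𝔾_a` -/
noncomputable def diffA {i : Red.Ga S ⟶ Y} [IsMonHom i] (hk : AlgGrp.IsKernel i q) : DiffA K B where
  d {E} _ _ σ τ := (Scheme.ΓSpecIso (CommRingCat.of E)).hom (Red.gaFn (diff g t sq hk σ τ))
  map φ σ τ := by
    rw [← tr_appTop (Y1 := Y1) t φ, ← gaFn_comp, tr_diff]
  add σ τ υ := by
    rw [← diff_mul g t sq hk σ τ υ, gaFn_mul, map_add]
  inj {E} _ _ σ τ υ h := by
    apply diff_inj g t sq hk (σ := σ)
    apply gaFn_injective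
    exact (Scheme.ΓSpecIso (CommRingCat.of E)).commRingCatIsoToRingEquiv.injective h
  surj {E} _ _ σ e := by
    obtain ⟨τ, hτ⟩ := diff_surj g t sq hk σ
      (gaPt (TE t E) ((Scheme.ΓSpecIso (CommRingCat.of E)).inv e))
    refine ⟨τ, ?_⟩
    rw [hτ, gaFn_gaPt]
    exact (Scheme.ΓSpecIso (CommRingCat.of E)).commRingCatIsoToRingEquiv.apply_symm_apply e

/-- the difference function of a fibre of a quotient by `𝔾_m` -/
noncomputable def diffM {i : Red.Gm S ⟶ Y} [IsMonHom i] (hk : AlgGrp.IsKernel i q) : DiffM K B where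
  d {E} _ _ σ τ := Units.map (Scheme.ΓSpecIso (CommRingCat.of E)).commRingCatIsoToRingEquiv.toMonoidHom
    (gmU (diff g t sq hk σ τ))
  map {E E'} _ _ _ _ φ σ τ := by
    change (Scheme.ΓSpecIso (CommRingCat.of E')).hom (gmU (diff g t sq hk _ _)).1 =
      φ ((Scheme.ΓSpecIso (CommRingCat.of E)).hom (gmU (diff g t sq hk σ τ)).1)
    rw [← tr_appTop (Y1 := Y1) t φ, ← tr_diff]
    exact congrArg _ (gmU_comp _ _)
  mul σ τ υ := by
    rw [← diff_mul g t sq hk σ τ υ, gmU_mul, map_mul]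
  inj {E} _ _ σ τ υ h := by
    apply diff_inj g t sq hk (σ := σ)
    apply gmU_injective
    apply Units.ext
    exact (Scheme.ΓSpecIso (CommRingCat.of E)).commRingCatIsoToRingEquiv.injective (congrArg Units.val h)
  surj {E} _ _ σ e := by
    obtain ⟨c, hc⟩ := gmU_surjective (TE t E)
      (Units.map (Scheme.ΓSpecIso (CommRingCat.of E)).commRingCatIsoToRingEquiv.symm.toMonoidHom e)
    obtain ⟨τ, hτ⟩ := diff_surj g t sq hk σ c
    refine ⟨τ, ?_⟩
    rw [hτ, hc]
    apply Units.ext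
    exact (Scheme.ΓSpecIso (CommRingCat.of E)).commRingCatIsoToRingEquiv.apply_symm_apply (e : E)

end coords

end Groth.Agent.Sga7.H153.TorsFib
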