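import Groth.Agent.Etbase.FpqcDescent
import Groth.Agent.Sga7.H153.TorsFib

/-!
# Quotients by an affine group are affine morphisms; good fibres

* `isPullback_shear`: `q` with kernel `i : C ⟶ Y`: `Y ×_{Y1} Y ≅ Y × C`.
* `isAffineHom_of_isKernel`.
* `FibGood f`: the fibres of `f` over fields are spectra of principal ideal domains `B` whose units are `c b^n`;
  `fibGood_ga`, `fibGood_gm`.
-/

set_option autoImplicit false
set_option linter.unusedSectionVars false
universe u
open CategoryTheory MonoidalCategory CartesianMonoidalCategory MonObj GrpObj AlgebraicGeometry Limits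

namespace Groth.Agent.Sga7.H153.Shear

open TorsFib DiffAlg

variable {S : Scheme.{u}} {C Y Y1 : Over S} [GrpObj C] [GrpObj Y] [GrpObj Y1]
variable {q : Y ⟶ Y1} {i : C ⟶ Y} [IsMonHom q] (hk : AlgGrp.IsKernel i q)

include hk in
/-- `Y × C ≅ Y ×_{Y1} Y`, `(y, c) ↦ (y, y c)` -/
theorem isPullback_shear : IsPullback (fst Y C) (fst Y C * (snd Y C ≫ i)) q q := by
  have hm := mono_of_isKernel hk
  have hw : fst Y C ≫ q = (fst Y C * (snd Y C ≫ i)) ≫ q := by
    rw [MonObj.mul_comp, Category.assoc, hk.w, ← Category.assoc, toUnit_unique (snd Y C ≫ toUnit C) (toUnit _)]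
    exact (mul_one (fst Y C ≫ q)).symm
  have key : ∀ (s : PullbackCone q q), (s.fst⁻¹ * s.snd) ≫ q = toUnit _ ≫ η[Y1] := by
    intro s
    rw [MonObj.mul_comp, GrpObj.inv_comp, s.condition, inv_mul_cancel]
    rfl
  refine ⟨⟨hw⟩, ⟨PullbackCone.IsLimit.mk _ (fun s => lift s.fst (hk.lift (s.fst⁻¹ * s.snd) (toUnit _) (key s)))
    (fun s => lift_fst _ _) (fun s => ?_) ?_⟩⟩
  · rw [MonObj.comp_mul, lift_fst, lift_snd_assoc, hk.lift_fst]
    group
  · intro s m h1 h2
    apply CartesianMonoidalCategory.hom_ext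
    · rw [h1, lift_fst]
    · rw [lift_snd, ← cancel_mono i, hk.lift_fst]
      rw [MonObj.comp_mul, h1] at h2
      rw [← h2, inv_mul_cancel_left, Category.assoc]

include hk in
/-- a quotient by an affine group is an affine morphism -/
theorem isAffineHom_of_isKernel [IsAffineHom C.hom] [Flat q.left] [Surjective q.left]
    [QuasiCompact q.left] : IsAffineHom q.left := by
  have := Etbase.FpqcDescent.descendsAlong_isAffineHom.{u}
  have h1 : IsPullback (fst Y C).left (fst Y C * (snd Y C ≫ i)).left q.left q.left :=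
    (isPullback_shear hk).map (Over.forget S)
  have h2 : (fst Y C).left = pullback.fst Y.hom C.hom := rfl
  have h3 : IsAffineHom (pullback.fst Y.hom C.hom) :=
    MorphismProperty.pullback_fst (P := @IsAffineHom) Y.hom C.hom inferInstance
  rw [← h2] at h3
  exact MorphismProperty.of_isPullback_of_descendsAlong (P := @IsAffineHom)
    (Q := (@Surjective ⊓ @Flat ⊓ @QuasiCompact : MorphismProperty Scheme.{u})) h1
    ⟨⟨inferInstance, inferInstance⟩, inferInstance⟩ h3

/-- all fibres over fields are spectra of good algebras -/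
def FibGood {X Z : Scheme.{u}} (f : X ⟶ Z) : Prop :=
  ∀ (K B : Type u) [Field K] [CommRing B] [Algebra K B] [Nontrivial B]
    (g : Spec (CommRingCat.of B) ⟶ X) (t : Spec (CommRingCat.of K) ⟶ Z),
    IsPullback g (Spec.map (CommRingCat.ofHom (algebraMap K B))) f t → ∃ b : Bˣ, IsGood K B b

theorem fibGood_ga {i : Red.Ga S ⟶ Y} [IsMonHom i] (hk : AlgGrp.IsKernel i q) : FibGood q.left := by
  intro K B _ _ _ _ g t sq
  exact ⟨1, (diffA g t sq hk).isGood⟩

theorem fibGood_gm {i : Red.Gm S ⟶ Y} [IsMonHom i] (hk : AlgGrp.IsKernel i q) : FibGood q.left := by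
  intro K B _ _ _ _ g t sq
  exact (diffM g t sq hk).exists_isGood

/-- the algebra of functions on a scheme over `Spec K` -/
noncomputable def fn {F : Scheme.{u}} {K : Type u} [CommRing K] (p₂ : F ⟶ Spec (CommRingCat.of K)) :
    K →+* Γ(F, ⊤) := ((Scheme.ΓSpecIso (CommRingCat.of K)).inv ≫ p₂.appTop).hom

theorem FibGood.exists_isGood {X Z : Scheme.{u}} {f : X ⟶ Z} (h : FibGood f) {F : Scheme.{u}} [IsAffine F]
    [Nonempty F] {K : Type u} [Field K]
    {p₁ : F ⟶ X} {p₂ : F ⟶ Spec (CommRingCat.of K)} {t : Spec (CommRingCat.of K) ⟶ Z}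
    (sq : IsPullback p₁ p₂ f t) : ∃ b : (Γ(F, ⊤))ˣ, @IsGood K Γ(F, ⊤) _ _ (fn p₂).toAlgebra b := by
  let _ : Algebra K Γ(F, ⊤) := (fn p₂).toAlgebra
  have hne : Nontrivial Γ(F, ⊤) := by
    have : Nonempty (Spec Γ(F, ⊤)) := ⟨F.isoSpec.hom (Classical.arbitrary F)⟩
    exact (PrimeSpectrum.nonempty_iff_nontrivial).1 this
  have hp : F.isoSpec.hom ≫ Spec.map (CommRingCat.ofHom (fn p₂)) = p₂ := by
    change F.toSpecΓ ≫ Spec.map ((Scheme.ΓSpecIso (CommRingCat.of K)).inv ≫ p₂.appTop) = p₂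
    rw [Spec.map_comp, ← Category.assoc, ← Scheme.toSpecΓ_naturality, Category.assoc,
      toSpecΓ_SpecMap_ΓSpecIso_inv, Category.comp_id]
  have sq' : IsPullback (F.isoSpec.inv ≫ p₁) (Spec.map (CommRingCat.ofHom (algebraMap K Γ(F, ⊤)))) f t := by
    refine IsPullback.of_iso sq F.isoSpec (Iso.refl _) (Iso.refl _) (Iso.refl _) ?_ ?_ ?_ ?_
    · simp
    · rw [Iso.refl_hom, Category.comp_id]
      exact hp.symm
    · simp
    · simp
  exact h K Γ(F, ⊤) _ t sq'

end Groth.Agent.Sga7.H153.Shear
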