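import Groth.Agent.S3840
import Groth.Agent.VarietyB.UfdPic
import Groth.Agent.Grpsch.PicGrp
import Groth.Agent.Sga7.H153.Shear

/-!
# Descent of invertible modules along morphisms with good fibres
-/

set_option autoImplicit false
universe u
open CategoryTheory AlgebraicGeometry Limits TopologicalSpace

namespace Groth.Agent.Sga7.H153.Desc

open Shear DiffAlg Groth.Agent.Grpsch.PicGrp Groth.Agent.Fdesc.LocGen

variable {X Z : Scheme.{u}} {f : X ⟶ Z}

theorem _root_.Groth.Agent.Sga7.H153.Shear.FibGood.fibre (h : FibGood f) {F : Scheme.{u}} [IsAffine F]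
    [Nonempty F] {K : Type u} [Field K]
    {p1 : F ⟶ X} {p2 : F ⟶ Spec (CommRingCat.of K)} {t : Spec (CommRingCat.of K) ⟶ Z}
    (sq : IsPullback p1 p2 f t) : IsIntegral F ∧ ParaF.PicTrivial F := by
  let _ : Algebra K Γ(F, ⊤) := (fn p2).toAlgebra
  obtain ⟨b, hb⟩ := h.exists_isGood sq
  have h1 := hb.isDomain
  have h2 := hb.isPrincipalIdealRing
  have h3 : IsIntegral F := isIntegral_of_isOpenImmersion F.isoSpec.hom
  refine ⟨h3, ?_⟩
  have h4 : NoetherianSpace F := F.isoSpec.hom.isOpenEmbedding.isInducing.noetherianSpace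
  exact Groth.Agent.VarietyB.UfdOpens.picTrivial (A := Γ(F, ⊤)) F.isoSpec.hom

theorem exists_descent [IsLocallyNoetherian X] [IsLocallyNoetherian Z] [Flat f] [Surjective f]
    [IsAffineHom f] (hZ : Pi1.IsNormalScheme Z) (h : FibGood f) (L : X.Modules) (hL : PicF.IsInvertible L) :
    ∃ M : Z.Modules, PicF.IsInvertible M ∧ Nonempty ((Scheme.Modules.pullback f).obj M ≅ L) := by
  have hF : ∀ y : Z, IsIntegral (f.fiber y) ∧ ParaF.PicTrivial (f.fiber y) := by
    intro y
    have h1 : IsAffineHom (f.fiberToSpecResidueField y) :=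
      MorphismProperty.pullback_snd (P := @IsAffineHom) _ _ inferInstance
    have h2 : IsAffine (f.fiber y) := isAffine_of_isAffineHom (f.fiberToSpecResidueField y)
    have h3 : Nonempty (f.fiber y) := by
      obtain ⟨x, hx⟩ := f.surjective y
      have : x ∈ Set.range (f.fiberι y) := by
        rw [f.range_fiberι]
        exact hx
      exact ⟨this.choose⟩
    exact h.fibre (K := Z.residueField y) (IsPullback.of_hasPullback f (Z.fromSpecResidueField y))
  exact Groth.Agent.S3840.result f (Or.inl inferInstance) hZ (fun y _ => (hF y).1) L hL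
    (fun η _ => (hF η).2 _ (isInvertible_pullback _ hL))

theorem pull_surjective [IsLocallyNoetherian X] [IsLocallyNoetherian Z] [Flat f] [Surjective f]
    [IsAffineHom f] (hZ : Pi1.IsNormalScheme Z) (h : FibGood f) : Function.Surjective (pull f) := by
  intro P
  obtain ⟨L, hL, rfl⟩ := exists_mk P
  obtain ⟨M, hM, ⟨e⟩⟩ := exists_descent hZ h L hL
  refine ⟨mk M hM, ?_⟩
  rw [pull_mk f hM, mk_eq_iff]
  exact ⟨e⟩

end Groth.Agent.Sga7.H153.Desc
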