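import Groth.Agent.Sga7.H730.PicDv
import Groth.Agent.Sga7.H153.Shear

/-!
# The kernel of `Pic Z → Pic X` for morphisms with good fibres is cyclic
-/

set_option autoImplicit false
universe u
open CategoryTheory AlgebraicGeometry Limits TopologicalSpace

namespace Groth.Agent.Sga7.H153.Ker

open Shear DiffAlg Groth.Agent.Grpsch.PicGrp Groth.Agent.Fdesc.LocGen
open Groth.Agent.Dix.Center Groth.Agent.Grpsch.GrowthFF
open Groth.Agent.Sga7.H730.Dv Groth.Agent.Sga7.H730.PicDv

/-! ### Divisors -/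

section dvs

variable {X Z : Scheme.{u}} [AlgebraicGeometry.IsIntegral X] [AlgebraicGeometry.IsIntegral Z]

/-- a rational function without divisor is a unit -/
theorem exists_unit_of_dv_eq_one {φ : X.functionFieldˣ} (h : dv φ = 1) :
    ∃ u : (Γ(X, ⊤))ˣ, gu (U := ⊤) (trivial : genericPoint X ∈ (⊤ : X.Opens)) u = φ := by
  rw [dv_eq_one_iff] at h
  obtain ⟨s, hs⟩ := exists_section (⊤ : X.Opens) trivial (φ : X.functionField) (fun x _ => (h x).1)
  obtain ⟨s', hs'⟩ := exists_section (⊤ : X.Opens) trivial ((φ⁻¹ : X.functionFieldˣ) : X.functionField)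
    (fun x _ => (h x).2)
  have h1 : s * s' = 1 := by
    apply germ_injective_of_isIntegral X (genericPoint X) (U := ⊤) trivial
    rw [map_mul, map_one]
    exact (congrArg₂ (· * ·) hs hs').trans (Units.mul_inv φ)
  exact ⟨Units.mkOfMulEqOne _ _ h1, Units.ext hs⟩

variable (f : X ⟶ Z) [Flat f]

/-- flat local homomorphisms reflect regularity of rational functions -/
theorem mem_O_of_sg_mem (hf : Dom f) (x : X) {φ : Z.functionField} (h : sg f hf φ ∈ O X x) :
    φ ∈ O Z (f x) := by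
  obtain ⟨a, b, hb, rfl⟩ := toK_frac (X := Z) (f x) φ
  obtain ⟨c, hc⟩ := h
  let _ : Algebra (Z.presheaf.stalk (f x)) (X.presheaf.stalk x) := (f.stalkMap x).hom.toAlgebra
  have hfl : Module.Flat (Z.presheaf.stalk (f x)) (X.presheaf.stalk x) := Flat.stalkMap f x
  have hlo : IsLocalHom (algebraMap (Z.presheaf.stalk (f x)) (X.presheaf.stalk x)) :=
    inferInstanceAs (IsLocalHom (f.stalkMap x).hom)
  have hff : Module.FaithfullyFlat (Z.presheaf.stalk (f x)) (X.presheaf.stalk x) :=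
    Module.FaithfullyFlat.of_flat_of_isLocalHom
  have hb' : toK Z (f x) b ≠ 0 := by
    intro h0
    exact hb (toK_injective Z (f x) (h0.trans (map_zero _).symm))
  have h1 : (f.stalkMap x).hom a = (f.stalkMap x).hom b * c := by
    apply toK_injective X x
    rw [map_mul, hc, map_div₀, ← sg_toK f hf, ← sg_toK f hf, mul_div_cancel₀]
    exact fun h0 => hb' ((sg f hf).injective (h0.trans (map_zero _).symm))
  have h2 : a ∈ Ideal.span {b} := by
    have h3 : a ∈ ((Ideal.span {b}).map (algebraMap (Z.presheaf.stalk (f x)) (X.presheaf.stalk x))).comap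
        (algebraMap (Z.presheaf.stalk (f x)) (X.presheaf.stalk x)) := by
      rw [Ideal.mem_comap, Ideal.map_span, Set.image_singleton, Ideal.mem_span_singleton]
      exact ⟨c, h1⟩
    rwa [Ideal.comap_map_eq_self_of_faithfullyFlat] at h3
  obtain ⟨d, hd⟩ := Ideal.mem_span_singleton.1 h2
  refine ⟨d, ?_⟩
  rw [hd, map_mul, mul_div_cancel_left₀ _ hb']

theorem mem_UU_of_sgU_mem (hf : Dom f) (x : X) {φ : Z.functionFieldˣ} (h : sgU f hf φ ∈ UU X x) :
    φ ∈ UU Z (f x) :=
  ⟨mem_O_of_sg_mem f hf x h.1, mem_O_of_sg_mem f hf x (by rw [← coe_sgU, map_inv]; exact h.2)⟩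

/-- pulling back divisors along a faithfully flat morphism is injective -/
theorem pl_injective [Surjective f] (hf : Dom f) : Function.Injective (pl f hf) := by
  rw [injective_iff_map_eq_one]
  intro D hD
  ext z : 1
  obtain ⟨x, rfl⟩ := f.surjective z
  obtain ⟨φ, hφ⟩ := QuotientGroup.mk_surjective (D (f x))
  have h1 := pl_apply f hf D x φ hφ.symm
  rw [hD, Dvs.one_apply] at h1
  rw [← hφ, Dvs.one_apply]
  exact (QuotientGroup.eq_one_iff φ).2 (mem_UU_of_sgU_mem f hf x ((QuotientGroup.eq_one_iff _).1 h1.symm))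

end dvs

/-! ### The kernel -/

section rel

variable {X Z F : Scheme.{u}} [AlgebraicGeometry.IsIntegral X] [AlgebraicGeometry.IsIntegral Z]
  [AlgebraicGeometry.IsIntegral F] (f : X ⟶ Z) (hf : Dom f) (p₁ : F ⟶ X) (hp : Dom p₁)
  (β : F.functionFieldˣ)

/-- the classes `P` with representative `D` such that `f^* D` is the divisor of `c β^n` on `F` -/
noncomputable def rel : Subgroup (Pic Z × Multiplicative ℤ) where
  carrier := {x | ∃ (D : Dvs Z) (φ : X.functionFieldˣ) (c : Z.functionFieldˣ), Rep x.1 D ∧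
    pl f hf D = dv φ ∧ sgU p₁ hp φ = sgU p₁ hp (sgU f hf c) * β ^ (Multiplicative.toAdd x.2)}
  mul_mem' := by
    rintro x y ⟨D, φ, c, h1, h2, h3⟩ ⟨D', φ', c', h1', h2', h3'⟩
    refine ⟨D * D', φ * φ', c * c', h1.mul h1', by rw [map_mul, map_mul, h2, h2'], ?_⟩
    rw [map_mul, h3, h3', map_mul, map_mul, Prod.snd_mul, toAdd_mul, zpow_add]
    exact mul_mul_mul_comm _ _ _ _
  one_mem' := ⟨1, 1, 1, rep_one, by rw [map_one, map_one], by simp⟩
  inv_mem' := by
    rintro x ⟨D, φ, c, h1, h2, h3⟩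
    refine ⟨D⁻¹, φ⁻¹, c⁻¹, h1.inv, by rw [map_inv, map_inv, h2], ?_⟩
    rw [map_inv, h3, map_inv, map_inv, Prod.snd_inv, toAdd_inv, zpow_neg, mul_inv]

lemma mem_ker_of_rel {x : Pic Z × Multiplicative ℤ} (h : x ∈ rel f hf p₁ hp β) : x.1 ∈ (pull f).ker := by
  obtain ⟨D, φ, c, h1, h2, h3⟩ := h
  have h4 := h1.pull f hf
  rw [h2] at h4
  exact h4.eq_one

lemma sgU_injective (hp : Dom p₁) : Function.Injective (sgU p₁ hp) := by
  intro a b h
  apply Units.ext
  apply (sg p₁ hp).injective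
  exact congrArg Units.val h

lemma eq_one_of_rel [Flat f] [Surjective f] {x : Pic Z × Multiplicative ℤ} (h : x ∈ rel f hf p₁ hp β)
    (hx : x.2 = 1) : x = 1 := by
  obtain ⟨D, φ, c, h1, h2, h3⟩ := h
  rw [hx, toAdd_one, zpow_zero, mul_one] at h3
  rw [sgU_injective p₁ hp h3, ← pl_dv] at h2
  have h4 := pl_injective f hf h2
  rw [h4] at h1
  exact Prod.ext h1.eq_one hx

/-- if every element of the kernel occurs, then the kernel is cyclic -/
theorem isCyclic_of_rel [Flat f] [Surjective f]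
    (h : ∀ P ∈ (pull f).ker, ∃ n : Multiplicative ℤ, (P, n) ∈ rel f hf p₁ hp β) : IsCyclic (pull f).ker := by
  let s : rel f hf p₁ hp β →* Multiplicative ℤ := (MonoidHom.snd _ _).comp (rel f hf p₁ hp β).subtype
  have hs : Function.Injective s := by
    rw [injective_iff_map_eq_one]
    intro x hx
    exact Subtype.ext (eq_one_of_rel f hf p₁ hp β x.2 hx)
  have h1 : IsCyclic (rel f hf p₁ hp β) := isCyclic_of_injective s hs
  let t : rel f hf p₁ hp β →* (pull f).ker :=
    ((MonoidHom.fst _ _).comp (rel f hf p₁ hp β).subtype).codRestrict _ (fun x => mem_ker_of_rel f hf p₁ hp β x.2)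
  refine isCyclic_of_surjective t ?_
  intro P
  obtain ⟨n, hn⟩ := h P.1 P.2
  exact ⟨⟨(P.1, n), hn⟩, rfl⟩

end rel

section main

variable {X Z : Scheme.{u}} [AlgebraicGeometry.IsIntegral X] [AlgebraicGeometry.IsIntegral Z] (f : X ⟶ Z)

lemma dom_fst (hf : Dom f) {K : CommRingCat.{u}} (t : Spec K ⟶ Z) (ht : genericPoint Z ∈ Set.range t)
    [AlgebraicGeometry.IsIntegral (pullback f t)] : Dom (pullback.fst f t) := by
  obtain ⟨s, hs⟩ := ht
  obtain ⟨z, hz, -⟩ := Scheme.Pullback.exists_preimage_pullback (f := f) (g := t) (genericPoint X) s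
    (by rw [hs]; exact hf)
  have h1 := (genericPoint_specializes (pullback f t) z).map (pullback.fst f t).continuous
  rw [hz] at h1
  exact (h1.antisymm (genericPoint_specializes X _)).eq

lemma sg_scalar {F : Scheme.{u}} [AlgebraicGeometry.IsIntegral F] (hf : Dom f) (p₁ : F ⟶ X) (hp : Dom p₁)
    (p₂ : F ⟶ Spec (Z.presheaf.stalk (genericPoint Z)))
    (hc : p₁ ≫ f = p₂ ≫ Z.fromSpecStalk (genericPoint Z)) (c : Z.functionField) :
    sg p₁ hp (sg f hf c) =
      gg (U := ⊤) trivial (p₂.appTop ((Scheme.ΓSpecIso (Z.presheaf.stalk (genericPoint Z))).inv c)) := by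
  obtain ⟨U, hU, s, rfl⟩ := exists_germ c
  rw [← sg_comp _ _ hp hf (hp.comp hf)]
  have hd : Dom (p₂ ≫ Z.fromSpecStalk (genericPoint Z)) := by
    rw [← hc]; exact hp.comp hf
  rw [sg_congr hc (hp.comp hf) hd]
  have hU' : genericPoint F ∈ (p₂ ≫ Z.fromSpecStalk (genericPoint Z)) ⁻¹ᵁ U := by
    change (p₂ ≫ Z.fromSpecStalk (genericPoint Z)) _ ∈ U
    rw [hd]; exact hU
  rw [sg_germ _ hd U hU hU', Scheme.Hom.comp_app, Scheme.fromSpecStalk_app hU]
  have h1 : ∀ a : Γ(Spec (Z.presheaf.stalk (genericPoint Z)), ⊤),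
      F.presheaf.germ _ _ hU' (p₂.app _ ((Spec (Z.presheaf.stalk (genericPoint Z))).presheaf.map
        (homOfLE (le_top : (Z.fromSpecStalk (genericPoint Z)) ⁻¹ᵁ U ≤ ⊤)).op a)) =
        gg (U := ⊤) trivial (p₂.appTop a) := by
    intro a
    have h2 := congr($(p₂.naturality (homOfLE (le_top : (Z.fromSpecStalk (genericPoint Z)) ⁻¹ᵁ U ≤ ⊤)).op) a)
    refine (congrArg _ h2).trans ?_
    exact F.presheaf.germ_res_apply _ _ _ _
  exact h1 _

theorem isCyclic_ker [Flat f] [Surjective f] [IsAffineHom f] (h : FibGood f) : IsCyclic (pull f).ker := by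
  have hf : Dom f := Dom.of_surjective f
  let t := Z.fromSpecStalk (genericPoint Z)
  have ht : genericPoint Z ∈ Set.range t := by
    rw [Scheme.range_fromSpecStalk]
    exact specializes_rfl
  let F := pullback f t
  let p₁ : F ⟶ X := pullback.fst f t
  let p₂ : F ⟶ Spec (Z.presheaf.stalk (genericPoint Z)) := pullback.snd f t
  have hsq : IsPullback p₁ p₂ f t := IsPullback.of_hasPullback f t
  have h1 : IsAffineHom p₂ := MorphismProperty.pullback_snd (P := @IsAffineHom) _ _ inferInstance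
  have h2 : IsAffine F := isAffine_of_isAffineHom p₂
  have h3 : Nonempty F := by
    obtain ⟨s, hs⟩ := ht
    obtain ⟨z, -, -⟩ := Scheme.Pullback.exists_preimage_pullback (f := f) (g := t) (genericPoint X) s
      (by rw [hs]; exact hf)
    exact ⟨z⟩
  let _ : Algebra Z.functionField Γ(F, ⊤) := (fn (K := Z.functionField) p₂).toAlgebra
  obtain ⟨b, hb⟩ := h.exists_isGood (K := Z.functionField) hsq
  have h4 : IsDomain Γ(F, ⊤) := hb.isDomain
  have h5 : AlgebraicGeometry.IsIntegral F := isIntegral_of_isOpenImmersion F.isoSpec.hom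
  have hp : Dom p₁ := dom_fst f hf t ht
  refine isCyclic_of_rel f hf p₁ hp (gu (U := ⊤) trivial b) ?_
  intro P hP
  obtain ⟨D, hD⟩ := exists_rep P
  have h6 := hD.pull f hf
  rw [show pull f P = 1 from hP] at h6
  obtain ⟨φ, hφ⟩ := h6.exists_dv_of_one
  have h7 : dv (sgU p₁ hp φ) = 1 := by
    rw [← pl_dv, ← hφ, ← pl_comp p₁ f hp hf (hp.comp hf)]
    ext z : 1
    obtain ⟨ψ, hψ⟩ := QuotientGroup.mk_surjective (D ((p₁ ≫ f) z))
    rw [pl_apply _ _ D z ψ hψ.symm, Dvs.one_apply]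
    refine (QuotientGroup.eq_one_iff _).2 (sgU_mem_UU _ _ ?_)
    have h8 : (p₁ ≫ f) z = genericPoint Z := by
      rw [hsq.w]
      have h9 : t (p₂ z) ⤳ genericPoint Z := by
        have : t (p₂ z) ∈ Set.range t := ⟨_, rfl⟩
        rw [Scheme.range_fromSpecStalk] at this
        exact this
      exact (h9.antisymm (genericPoint_specializes Z _)).eq
    rw [h8, mem_UU_iff]
    exact ⟨ψ, by
      change toK Z (genericPoint Z) (ψ : Z.functionField) = ψ
      exact congr($(Z.presheaf.stalkSpecializes_refl (genericPoint Z)) (ψ : Z.functionField))⟩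
  obtain ⟨u, hu⟩ := exists_unit_of_dv_eq_one h7
  obtain ⟨c, n, hcn⟩ := hb.units u
  refine ⟨Multiplicative.ofAdd n, D, φ, c, hD, hφ, ?_⟩
  rw [← hu, hcn, map_mul, map_zpow]
  congr 1
  apply Units.ext
  rw [coe_sgU, coe_sgU, sg_scalar f hf p₁ hp p₂ hsq.w]
  rfl

end main

end Groth.Agent.Sga7.H153.Ker
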