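import Groth.Agent.Dix.NormalLoc
import Groth.Agent.Sga7.H153.Desc
import Groth.Agent.Sga7.H153.Ker

/-!
# CORE, C3a-desc and C3b: Picard groups and quotients by `𝔾_a`, `𝔾_m`

`Y ⟶ Y1` a quotient of smooth connected groups of finite type over a field `K` with kernel `𝔾_a` or `𝔾_m`:
`Pic Y1 → Pic Y` is surjective with cyclic kernel.
-/

set_option autoImplicit false

universe u

open CategoryTheory MonoidalCategory CartesianMonoidalCategory MonObj GrpObj AlgebraicGeometry Limits

namespace Groth.Agent.Sga7.H153.C3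

open Shear Groth.Agent.Grpsch.PicGrp

variable {K : Type u} [Field K]

lemma isIntegral_of_smooth {X : Scheme.{u}} (f : X ⟶ Spec (CommRingCat.of K)) [Smooth f] [ConnectedSpace X] :
    AlgebraicGeometry.IsIntegral X := by
  have h1 : IsLocallyNoetherian X := LocallyOfFiniteType.isLocallyNoetherian f
  exact (Ega1.GenPts.isIntegral_iff X).2 ⟨inferInstance, fun x => (Dix.NormalLoc.stalk_of_smooth f x).1⟩

lemma quasiCompact_hom {X Z : Over (Spec (CommRingCat.of K))} [LocallyOfFiniteType X.hom] [QuasiCompact X.hom]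
    (q : X ⟶ Z) : QuasiCompact q.left := by
  have h1 : IsLocallyNoetherian X.left := LocallyOfFiniteType.isLocallyNoetherian X.hom
  have h2 : CompactSpace X.left := (quasiCompact_iff_compactSpace X.hom).1 inferInstance
  have h3 : IsNoetherian X.left := {}
  infer_instance

variable {C Y Y1 : Over (Spec (CommRingCat.of K))} [GrpObj C] [GrpObj Y] [GrpObj Y1]
  [Smooth Y.hom] [Smooth Y1.hom] [QuasiCompact Y.hom]
  {i : C ⟶ Y} {q : Y ⟶ Y1} [IsMonHom q] [Flat q.left] [Surjective q.left]

theorem pull_surjective [IsAffineHom C.hom] (hk : AlgGrp.IsKernel i q) (hg : FibGood q.left) :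
    Function.Surjective (pull q.left) := by
  have h1 : IsLocallyNoetherian Y.left := LocallyOfFiniteType.isLocallyNoetherian Y.hom
  have h2 : IsLocallyNoetherian Y1.left := LocallyOfFiniteType.isLocallyNoetherian Y1.hom
  have h3 : QuasiCompact q.left := quasiCompact_hom q
  have h4 : IsAffineHom q.left := isAffineHom_of_isKernel hk
  exact Desc.pull_surjective (fun x => Dix.NormalLoc.stalk_of_smooth Y1.hom x) hg

theorem isCyclic_ker [IsAffineHom C.hom] [ConnectedSpace Y.left] [ConnectedSpace Y1.left]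
    (hk : AlgGrp.IsKernel i q) (hg : FibGood q.left) : IsCyclic (pull q.left).ker := by
  have h1 := isIntegral_of_smooth Y.hom
  have h2 := isIntegral_of_smooth Y1.hom
  have h3 : QuasiCompact q.left := quasiCompact_hom q
  have h4 : IsAffineHom q.left := isAffineHom_of_isKernel hk
  exact Ker.isCyclic_ker q.left hg

instance isAffineHom_ga (S : Scheme.{u}) : IsAffineHom (Red.Ga S).hom :=
  MorphismProperty.pullback_snd (P := @IsAffineHom) _ _
    (inferInstanceAs (IsAffineHom (Spec.map (CommRingCat.ofHom _))))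

instance isAffineHom_gm (S : Scheme.{u}) : IsAffineHom (Red.Gm S).hom :=
  MorphismProperty.pullback_snd (P := @IsAffineHom) _ _
    (inferInstanceAs (IsAffineHom (Spec.map (CommRingCat.ofHom _))))

/-- **C3a-desc** for `𝔾_a` -/
theorem desc_ga (Y Y1 : Over (Spec (CommRingCat.of K))) [GrpObj Y] [GrpObj Y1]
    [Smooth Y.hom] [Smooth Y1.hom] [QuasiCompact Y.hom] (i : Red.Ga (Spec (CommRingCat.of K)) ⟶ Y) (q : Y ⟶ Y1)
    [IsMonHom i] [IsMonHom q] [Flat q.left] [Surjective q.left] (hk : AlgGrp.IsKernel i q) :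
    Function.Surjective (pull q.left) :=
  pull_surjective hk (fibGood_ga hk)

/-- **C3a-desc** for `𝔾_m` -/
theorem desc_gm (Y Y1 : Over (Spec (CommRingCat.of K))) [GrpObj Y] [GrpObj Y1]
    [Smooth Y.hom] [Smooth Y1.hom] [QuasiCompact Y.hom] (i : Red.Gm (Spec (CommRingCat.of K)) ⟶ Y) (q : Y ⟶ Y1)
    [IsMonHom i] [IsMonHom q] [Flat q.left] [Surjective q.left] (hk : AlgGrp.IsKernel i q) :
    Function.Surjective (pull q.left) :=
  pull_surjective hk (fibGood_gm hk)

/-- **C3b** for `𝔾_a` -/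
theorem cyc_ga (Y Y1 : Over (Spec (CommRingCat.of K))) [GrpObj Y] [GrpObj Y1]
    [Smooth Y.hom] [Smooth Y1.hom] [QuasiCompact Y.hom] [ConnectedSpace Y.left] [ConnectedSpace Y1.left]
    (i : Red.Ga (Spec (CommRingCat.of K)) ⟶ Y) (q : Y ⟶ Y1)
    [IsMonHom i] [IsMonHom q] [Flat q.left] [Surjective q.left] (hk : AlgGrp.IsKernel i q) :
    IsCyclic (pull q.left).ker :=
  isCyclic_ker hk (fibGood_ga hk)

/-- **C3b** for `𝔾_m` -/
theorem cyc_gm (Y Y1 : Over (Spec (CommRingCat.of K))) [GrpObj Y] [GrpObj Y1]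
    [Smooth Y.hom] [Smooth Y1.hom] [QuasiCompact Y.hom] [ConnectedSpace Y.left] [ConnectedSpace Y1.left]
    (i : Red.Gm (Spec (CommRingCat.of K)) ⟶ Y) (q : Y ⟶ Y1)
    [IsMonHom i] [IsMonHom q] [Flat q.left] [Surjective q.left] (hk : AlgGrp.IsKernel i q) :
    IsCyclic (pull q.left).ker :=
  isCyclic_ker hk (fibGood_gm hk)

end Groth.Agent.Sga7.H153.C3
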